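import Cfsg.Agent.Lib.PSUField.Main
import Cfsg.Agent.Lib.PSLAut.GraphClasses
import Cfsg.Agent.Lib.PSLAut.GraphFieldCent

/-!
# Involutory graph automorphisms of `PSU_n(q)` and forms over the field of order `q`

A frame `E` for a matrix `A` over `F₀` carries `A` to a multiple of the hermitian form; the automorphism
of `PSU` attached to it is `conj (μ E Ē⁻¹)` followed by the `q`-th power map on the entries.
-/

set_option autoImplicit false
set_option linter.unusedSectionVars false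

namespace Cfsg.Agent.Lib.PSUGraph

open Matrix PSUAut FieldDescent PSUField
open PSLAut (formOp formOp_mul formOp_smul matSimil mem_matSimil)
open scoped MatrixGroups

variable {F : Type*} [Field F] [Fintype F] {n q : ℕ}
variable {F₀ : Type*} [Field F₀] [Fintype F₀]

local notation "GUT" => (GUType n F q)
local notation "AutT" => (MulAut (Cfsg.PSU n F q))

theorem coe_scalar_mul {R : Type*} [Field R] (c : Rˣ) (g : GL (Fin n) R) :
    ((GeneralLinearGroup.scalar (Fin n) c * g : GL (Fin n) R) : Matrix (Fin n) (Fin n) R)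
      = (c : R) • (g : Matrix (Fin n) (Fin n) R) := by
  ext i j
  simp [GeneralLinearGroup.coe_scalar, Matrix.diagonal_mul]

theorem smul_left_cancel {R : Type*} [Field R] {a b : R} {X : Matrix (Fin n) (Fin n) R}
    (hX : X.det ≠ 0) (hn : 1 ≤ n) (h : a • X = b • X) : a = b := by
  by_contra hne
  haveI : Nonempty (Fin n) := ⟨⟨0, hn⟩⟩
  have h0 : (a - b) • X = 0 := by rw [sub_smul, h, sub_self]
  rw [smul_eq_zero, sub_eq_zero] at h0
  exact hX (by rw [h0.resolve_left hne, Matrix.det_zero])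

variable (hF : Fintype.card F = q ^ 2)

/-- The `q`-th power map on the entries. -/
noncomputable def barGL : GL (Fin n) F →* GL (Fin n) F := GeneralLinearGroup.map (barEquiv hF).toRingHom

/-- `E Ē⁻¹`. -/
noncomputable def twist (E : GL (Fin n) F) : GL (Fin n) F := E * (barGL hF E)⁻¹

/-- The graph automorphism attached to `g ∈ GU`. -/
noncomputable def gaut (g : GUT) : AutT := conj g * fieldAut (barEquiv hF)

theorem coe_barGL (E : GL (Fin n) F) :
    (barGL hF E : Matrix (Fin n) (Fin n) F) = (E : Matrix (Fin n) (Fin n) F).map (barEquiv hF) := rfl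

theorem bar_bar (x : F) : barEquiv hF (barEquiv hF x) = x := by
  rw [barEquiv_apply, barEquiv_apply]; exact Forms.pow_q_pow_q hF x

theorem barGL_barGL (E : GL (Fin n) F) : barGL hF (barGL hF E) = E :=
  Units.ext (Matrix.ext fun _ _ => bar_bar hF _)

theorem barGL_scalar (c : Fˣ) :
    barGL hF (GeneralLinearGroup.scalar (Fin n) c) =
      GeneralLinearGroup.scalar (Fin n) (Units.map (barEquiv hF).toRingHom.toMonoidHom c) :=
  GeneralLinearGroup.map_scalar _ c

theorem coe_guField_bar (g : GUT) : (guField (barEquiv hF) g).1 = barGL hF g.1 := rfl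

theorem gram_scalar_mul (c : Fˣ) (g : GL (Fin n) F) :
    PSUField.gram hF (GeneralLinearGroup.scalar (Fin n) c * g) = ((c : F) * (c : F) ^ q) • PSUField.gram hF g := by
  rw [PSUField.gram, PSUField.gram, coe_scalar_mul, Matrix.map_smul' _ _ _ (map_mul (barEquiv hF)), Matrix.transpose_smul,
    Matrix.smul_mul, Matrix.mul_smul, smul_smul, barEquiv_apply]

theorem gram_conjTranspose (g : GL (Fin n) F) : ((PSUField.gram hF g).map (barEquiv hF))ᵀ = PSUField.gram hF g := by
  rw [PSUField.gram, Matrix.map_mul, Matrix.transpose_mul]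
  congr 1
  · ext i j; exact bar_bar hF _
  

theorem det_gram_ne_zero (g : GL (Fin n) F) : (PSUField.gram hF g).det ≠ 0 := by
  rw [PSUField.gram, Matrix.det_mul, Matrix.det_transpose]
  exact mul_ne_zero (GeneralLinearGroup.det_ne_zero g) (GeneralLinearGroup.det_ne_zero (barGL hF g))

theorem gram_mul_gu {k : GL (Fin n) F} (hk : k ∈ Cfsg.GU n F q) (E : GL (Fin n) F) :
    PSUField.gram hF (k * E) = PSUField.gram hF E := by
  rw [gram_mul, (mem_GU_iff_gram hF k).1 hk, Matrix.mul_one]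
  rfl

theorem twist_mul (k E : GL (Fin n) F) : twist hF (k * E) = k * twist hF E * (barGL hF k)⁻¹ := by
  rw [twist, twist, map_mul]; group

theorem twist_scalar_mul (c : Fˣ) (E : GL (Fin n) F) :
    ∃ d : Fˣ, twist hF (GeneralLinearGroup.scalar (Fin n) c * E) =
      GeneralLinearGroup.scalar (Fin n) d * twist hF E := by
  refine ⟨c * (Units.map (barEquiv hF).toRingHom.toMonoidHom c)⁻¹, ?_⟩
  rw [twist_mul, barGL_scalar, mul_assoc, ← map_inv, ← GeneralLinearGroup.scalar_commute, ← mul_assoc,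
    ← map_mul]

/-- Conjugation by `k ∈ GU` sends `gaut g` to `gaut (k g k̄⁻¹)`. -/
theorem conj_gaut (k g : GUT) :
    (conj k * gaut hF g * (conj k)⁻¹ : AutT) = gaut hF (k * g * (guField (barEquiv hF) k)⁻¹) := by
  calc (conj k * gaut hF g * (conj k)⁻¹ : AutT)
      = conj k * conj g * (fieldAut (barEquiv hF) * conj k⁻¹) := by rw [gaut, map_inv]; group
    _ = _ := by rw [fieldAut_mul_conj, map_inv (guField _), gaut, map_mul, map_mul, map_inv]; group

/-- Scalars move to the front. -/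
theorem pull_scalar (c : Fˣ) (k x y : GL (Fin n) F) :
    k * (GeneralLinearGroup.scalar (Fin n) c * x) * y = GeneralLinearGroup.scalar (Fin n) c * (k * x * y) := by
  rw [← mul_assoc k, ← GeneralLinearGroup.scalar_commute]
  simp only [mul_assoc]

variable (ι : F₀ →+* F)

/-- `E` carries `A` to a multiple of the standard hermitian form. -/
def IsFrame (E : GL (Fin n) F) (A : GL (Fin n) F₀) : Prop :=
  ∃ η : Fˣ, PSUField.gram hF E = (η : F) • (A : Matrix (Fin n) (Fin n) F₀).map ι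

/-- `γ` is attached to `A`. -/
def Rep (γ : AutT) (A : GL (Fin n) F₀) : Prop :=
  ∃ (E : GL (Fin n) F) (g : GUT) (μ : Fˣ), IsFrame hF ι E A ∧
    g.1 = GeneralLinearGroup.scalar (Fin n) μ * twist hF E ∧ γ = gaut hF g

variable {ι} (hι : ∀ x : F, x ^ q = x ↔ ∃ y, ι y = x)
include hF hι

theorem bar_ι (y : F₀) : barEquiv hF (ι y) = ι y := by rw [barEquiv_apply]; exact (hι _).2 ⟨y, rfl⟩

theorem barGL_map (h : GL (Fin n) F₀) :
    barGL hF (GeneralLinearGroup.map ι h) = GeneralLinearGroup.map ι h :=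
  Units.ext (Matrix.ext fun _ _ => bar_ι hF hι _)

theorem map_map_bar (A : Matrix (Fin n) (Fin n) F₀) : (A.map ι).map (barEquiv hF) = A.map ι :=
  Matrix.ext fun _ _ => bar_ι hF hι _

theorem twist_mul_map (E : GL (Fin n) F) (h : GL (Fin n) F₀) :
    twist hF (E * GeneralLinearGroup.map ι h) = twist hF E := by
  rw [twist, twist, map_mul, barGL_map hF hι]; group

theorem gram_mul_map {E : GL (Fin n) F} {A : GL (Fin n) F₀} {η : F}
    (hE : PSUField.gram hF E = η • (A : Matrix (Fin n) (Fin n) F₀).map ι) (h : GL (Fin n) F₀) :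
    PSUField.gram hF (E * GeneralLinearGroup.map ι h)
      = η • (formOp h (A : Matrix (Fin n) (Fin n) F₀)).map ι := by
  rw [gram_mul, hE, ← coe_barGL, barGL_map hF hι]
  show ((h : Matrix (Fin n) (Fin n) F₀).map ι)ᵀ * _ * (h : Matrix (Fin n) (Fin n) F₀).map ι = _
  rw [Matrix.mul_smul, Matrix.smul_mul, ← Matrix.transpose_map, ← Matrix.map_mul, ← Matrix.map_mul]
  rfl

/-- Frames with the same twist differ by a scalar and a matrix over `F₀`. -/
theorem exists_of_twist_eq (hn : 1 ≤ n) {E E' : GL (Fin n) F} {ν : Fˣ}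
    (h : twist hF E' = GeneralLinearGroup.scalar (Fin n) ν * twist hF E) :
    ∃ (w : Fˣ) (h₀ : GL (Fin n) F₀),
      E' = GeneralLinearGroup.scalar (Fin n) w * (E * GeneralLinearGroup.map ι h₀) := by
  classical
  have hT : (E⁻¹ * E') = GeneralLinearGroup.scalar (Fin n) ν * barGL hF (E⁻¹ * E') := by
    have h1 : E' = twist hF E' * barGL hF E' := by rw [twist, inv_mul_cancel_right]
    calc E⁻¹ * E' = E⁻¹ * (GeneralLinearGroup.scalar (Fin n) ν * twist hF E * barGL hF E') := by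
          rw [← h, ← h1]
      _ = GeneralLinearGroup.scalar (Fin n) ν * (E⁻¹ * twist hF E * barGL hF E') := by
          rw [mul_assoc (GeneralLinearGroup.scalar (Fin n) ν), ← mul_assoc E⁻¹,
            ← GeneralLinearGroup.scalar_commute]
          group
      _ = _ := by rw [twist, map_mul, map_inv]; group
  set T := E⁻¹ * E' with hTdef
  obtain ⟨i, j, hij⟩ : ∃ i j, (T : Matrix (Fin n) (Fin n) F) i j ≠ 0 := by
    by_contra hno
    push Not at hno
    exact GeneralLinearGroup.det_ne_zero T (Matrix.det_eq_zero_of_column_eq_zero ⟨0, hn⟩ fun i => hno i _)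
  set w := Units.mk0 _ hij with hw
  have hTe : ∀ a b, (T : Matrix (Fin n) (Fin n) F) a b
      = (ν : F) * barEquiv hF ((T : Matrix (Fin n) (Fin n) F) a b) := fun a b => by
    have h1 : (T : Matrix (Fin n) (Fin n) F) = (ν : F) • (T : Matrix (Fin n) (Fin n) F).map (barEquiv hF) := by
      conv_lhs => rw [hT, coe_scalar_mul]
      rfl
    exact congrFun (congrFun h1 a) b
  have hreal : ∀ a b, ∃ y, ι y = (T : Matrix (Fin n) (Fin n) F) a b / (w : F) := fun a b => by
    refine (hι _).1 ?_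
    rw [← barEquiv_apply hF, map_div₀, hw, Units.val_mk0]
    have hb : barEquiv hF ((T : Matrix (Fin n) (Fin n) F) i j) ≠ 0 := fun h0 =>
      hij ((barEquiv hF).injective (h0.trans (map_zero _).symm))
    rw [div_eq_div_iff hb hij]
    conv_lhs => rw [hTe i j]
    conv_rhs => rw [hTe a b]
    ring
  choose S hS using hreal
  have hSw : (GeneralLinearGroup.scalar (Fin n) w⁻¹ * T : GL (Fin n) F).1 = (Matrix.of S).map ι := by
    rw [coe_scalar_mul]
    ext a b
    rw [Matrix.map_apply, Matrix.of_apply, hS, Matrix.smul_apply, smul_eq_mul, Units.val_inv_eq_inv_val,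
      inv_mul_eq_div]
  have hdet : (Matrix.of S).det ≠ 0 := fun h0 => GeneralLinearGroup.det_ne_zero
    (GeneralLinearGroup.scalar (Fin n) w⁻¹ * T) (by rw [hSw]; exact (RingHom.map_det ι _).symm.trans (by rw [h0, map_zero]))
  refine ⟨w, GeneralLinearGroup.mkOfDetNeZero _ hdet, ?_⟩
  have : GeneralLinearGroup.map ι (GeneralLinearGroup.mkOfDetNeZero _ hdet)
      = GeneralLinearGroup.scalar (Fin n) w⁻¹ * T := Units.ext hSw.symm
  rw [this, ← mul_assoc E, ← GeneralLinearGroup.scalar_commute, mul_assoc, ← mul_assoc (GeneralLinearGroup.scalar (Fin n) w),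
    ← map_mul, mul_inv_cancel, map_one, one_mul, hTdef, mul_inv_cancel_left]

/-- A frame determines `A` up to a scalar in `F₀`. -/
theorem exists_smul_eq (hn : 1 ≤ n) {a b : F} (ha : a ≠ 0) {A B : GL (Fin n) F₀}
    (h : a • (A : Matrix (Fin n) (Fin n) F₀).map ι = b • (B : Matrix (Fin n) (Fin n) F₀).map ι) :
    ∃ c : F₀ˣ, b = a * ι c ∧ (A : Matrix (Fin n) (Fin n) F₀) = (c : F₀) • (B : Matrix (Fin n) (Fin n) F₀) := by
  classical
  obtain ⟨i, j, hij⟩ : ∃ i j, (B : Matrix (Fin n) (Fin n) F₀) i j ≠ 0 := by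
    by_contra hno
    push Not at hno
    exact GeneralLinearGroup.det_ne_zero B (Matrix.det_eq_zero_of_column_eq_zero ⟨0, hn⟩ fun i => hno i _)
  set c := (A : Matrix (Fin n) (Fin n) F₀) i j / (B : Matrix (Fin n) (Fin n) F₀) i j with hc
  have hb : b = a * ι c := by
    have h1 := congrFun (congrFun h i) j
    simp only [Matrix.smul_apply, Matrix.map_apply, smul_eq_mul] at h1
    rw [hc, map_div₀, ← mul_div_assoc, h1, mul_div_assoc, div_self ((map_ne_zero ι).2 hij), mul_one]
  have hAB : (A : Matrix (Fin n) (Fin n) F₀) = c • (B : Matrix (Fin n) (Fin n) F₀) := by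
    ext k l
    refine ι.injective (mul_left_cancel₀ ha ?_)
    have h1 := congrFun (congrFun h k) l
    simp only [Matrix.smul_apply, Matrix.map_apply, smul_eq_mul, map_mul] at h1 ⊢
    rw [h1, hb, mul_assoc]
  have hc0 : c ≠ 0 := fun h0 => by
    rw [h0, zero_smul] at hAB
    exact GeneralLinearGroup.det_ne_zero A (by
      haveI : Nonempty (Fin n) := ⟨⟨0, hn⟩⟩
      rw [hAB, Matrix.det_zero])
  exact ⟨Units.mk0 c hc0, hb, hAB⟩

theorem exists_norm_unit (c : F₀ˣ) :
    ∃ ν : Fˣ, (ν : F) * (ν : F) ^ q = ι c := by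
  obtain ⟨t, ht⟩ := exists_norm hF (ι c) (by rw [Forms.qPowHom_apply]; exact (hι _).2 ⟨_, rfl⟩)
  rw [Forms.qPowHom_apply] at ht
  exact ⟨Units.mk0 t fun h => (map_ne_zero ι).2 c.ne_zero (by rw [← ht, h, zero_mul]), ht⟩

/-- Frames of congruent matrices differ by an element of `GU`. -/
theorem exists_gu_of_frames (hn : 1 ≤ n) {E E' : GL (Fin n) F} {A : GL (Fin n) F₀} (hE : IsFrame hF ι E A)
    (hE' : IsFrame hF ι E' A) :
    ∃ (k : GUT) (ν : Fˣ), E' = k.1 * (GeneralLinearGroup.scalar (Fin n) ν * E) := by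
  obtain ⟨η, hη⟩ := hE
  obtain ⟨η', hη'⟩ := hE'
  obtain ⟨c, hc⟩ : ∃ c, ι c = (η' : F) / η := by
    refine (hι _).1 ?_
    have h1 := gram_conjTranspose hF E
    have h2 := gram_conjTranspose hF E'
    rw [hη, Matrix.map_smul' _ _ _ (map_mul (barEquiv hF)), map_map_bar hF hι, Matrix.transpose_smul] at h1
    rw [hη', Matrix.map_smul' _ _ _ (map_mul (barEquiv hF)), map_map_bar hF hι, Matrix.transpose_smul] at h2
    have hne : (η : F) ≠ 0 := η.ne_zero
    have hne' : barEquiv hF (η : F) ≠ 0 := fun h0 => hne ((barEquiv hF).injective (h0.trans (map_zero _).symm))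
    have h3 : ((η' : F) * barEquiv hF η) • (A : Matrix (Fin n) (Fin n) F₀).map ι
        = ((η : F) * barEquiv hF η') • (A : Matrix (Fin n) (Fin n) F₀).map ι := by
      calc ((η' : F) * barEquiv hF η) • (A : Matrix (Fin n) (Fin n) F₀).map ι
          = barEquiv hF η • ((η' : F) • (A : Matrix (Fin n) (Fin n) F₀).map ι) := by rw [smul_smul, mul_comm]
        _ = barEquiv hF η' • (barEquiv hF η • ((A : Matrix (Fin n) (Fin n) F₀).map ι)ᵀ) := by
            rw [← h2, smul_comm]
        _ = _ := by rw [h1, smul_smul, mul_comm]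
    have h4 := smul_left_cancel (by
      intro h0
      exact GeneralLinearGroup.det_ne_zero (GeneralLinearGroup.map ι A) h0) hn h3
    rw [← barEquiv_apply hF, map_div₀, div_eq_div_iff hne' hne]
    linear_combination -h4
  have hc0 : c ≠ 0 := fun h0 => by
    rw [h0, map_zero] at hc
    exact div_ne_zero η'.ne_zero η.ne_zero hc.symm
  obtain ⟨ν, hν⟩ := exists_norm_unit hF hι (Units.mk0 c hc0)
  rw [Units.val_mk0, hc] at hν
  have hg : PSUField.gram hF (GeneralLinearGroup.scalar (Fin n) ν * E) = PSUField.gram hF E' := by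
    rw [gram_scalar_mul, hν, hη, hη', smul_smul, div_mul_cancel₀ _ η.ne_zero]
  refine ⟨⟨E' * (GeneralLinearGroup.scalar (Fin n) ν * E)⁻¹, ?_⟩, ν, by rw [inv_mul_cancel_right]⟩
  rw [mem_GU_iff_gram hF, gram_mul, ← hg, ← gram_mul, mul_inv_cancel, gram_one]

omit hι in
theorem conj_eq_of_scalar (hn : 3 ≤ n) {g g' : GUT} {c : Fˣ}
    (h : g.1 = GeneralLinearGroup.scalar (Fin n) c * g'.1) : gaut hF g = gaut hF g' := by
  rw [gaut, gaut, (conj_eq_conj_iff hF hn g g').2 ⟨c, h⟩]

/-- Matrices related by congruence and scalars give conjugate automorphisms. -/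
theorem isConjUnder_of_rep (hn : 3 ≤ n) {γ γ' : AutT} {A A' h : GL (Fin n) F₀} {c : F₀ˣ}
    (hγ : Rep hF ι γ A) (hγ' : Rep hF ι γ' A')
    (hh : formOp h (A : Matrix (Fin n) (Fin n) F₀) = (c : F₀) • (A' : Matrix (Fin n) (Fin n) F₀)) :
    Cfsg.IsConjUnder (Cfsg.inndiagPSU n F q) γ γ' := by
  obtain ⟨E, g, μ, ⟨η, hη⟩, hg, rfl⟩ := hγ
  obtain ⟨E', g', μ', hE', hg', rfl⟩ := hγ'
  have hframe : IsFrame hF ι (E * GeneralLinearGroup.map ι h) A' := by
    refine ⟨η * Units.map ι.toMonoidHom c, ?_⟩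
    rw [gram_mul_map hF hι hη, hh, Matrix.map_smul' _ _ _ (map_mul ι), smul_smul]
    rfl
  obtain ⟨k, ν, hk⟩ := exists_gu_of_frames hF hι (by omega) hframe hE'
  refine ⟨conj k, inndiagPSU_eq_range.ge ⟨k, rfl⟩, ?_⟩
  obtain ⟨d, hd⟩ := twist_scalar_mul hF ν (E * GeneralLinearGroup.map ι h)
  rw [twist_mul_map hF hι] at hd
  rw [conj_gaut]
  refine conj_eq_of_scalar hF hn (c := μ' * d * μ⁻¹) ?_
  rw [hg', hk, twist_mul, hd, Subgroup.coe_mul, Subgroup.coe_mul, Subgroup.coe_inv, coe_guField_bar, hg,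
    pull_scalar, pull_scalar]
  simp only [← mul_assoc]
  simp only [← map_mul, inv_mul_cancel_right]

theorem rep_of_isConjUnder (hn : 3 ≤ n) {γ γ' : AutT} {A : GL (Fin n) F₀} (hγ : Rep hF ι γ A)
    (h : Cfsg.IsConjUnder (Cfsg.inndiagPSU n F q) γ γ') : Rep hF ι γ' A := by
  obtain ⟨x, hx, rfl⟩ := h
  obtain ⟨k, rfl⟩ := inndiagPSU_eq_range.le hx
  obtain ⟨E, g, μ, ⟨η, hη⟩, hg, rfl⟩ := hγ
  refine ⟨k.1 * E, _, μ, ⟨η, by rw [gram_mul_gu hF k.2, hη]⟩, ?_, conj_gaut hF k g⟩
  rw [Subgroup.coe_mul, Subgroup.coe_mul, Subgroup.coe_inv, coe_guField_bar, hg, twist_mul]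
  rw [pull_scalar]

theorem congr_of_rep (hn : 3 ≤ n) {γ : AutT} {A A' : GL (Fin n) F₀} (hγ : Rep hF ι γ A)
    (hγ' : Rep hF ι γ A') : ∃ (h : GL (Fin n) F₀) (c : F₀ˣ),
      formOp h (A : Matrix (Fin n) (Fin n) F₀) = (c : F₀) • (A' : Matrix (Fin n) (Fin n) F₀) := by
  obtain ⟨E, g, μ, ⟨η, hη⟩, hg, hγe⟩ := hγ
  obtain ⟨E', g', μ', ⟨η', hη'⟩, hg', hγe'⟩ := hγ'
  rw [hγe, gaut, gaut, mul_left_inj, conj_eq_conj_iff hF hn, hg, hg'] at hγe'
  obtain ⟨c, hc⟩ := hγe'
  have htw : twist hF E' = GeneralLinearGroup.scalar (Fin n) ((c * μ')⁻¹ * μ) * twist hF E := by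
    rw [map_mul, mul_assoc, hc, ← mul_assoc (GeneralLinearGroup.scalar (Fin n) c), ← map_mul, ← mul_assoc,
      ← map_mul, inv_mul_cancel, map_one, one_mul]
  obtain ⟨w, h₀, hw⟩ := exists_of_twist_eq hF hι (by omega) htw
  have he := congrArg (PSUField.gram hF) hw
  rw [gram_scalar_mul, gram_mul_map hF hι hη, hη', smul_smul] at he
  obtain ⟨d, -, hd⟩ := exists_smul_eq hF hι (by omega) (A := A') (B := PSLAut.glForm h₀ A) η'.ne_zero
    (b := (w : F) * (w : F) ^ q * η) (by rw [PSLAut.coe_glForm]; exact he)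
  refine ⟨h₀, d⁻¹, ?_⟩
  rw [hd, PSLAut.coe_glForm, smul_smul, Units.inv_mul, one_smul]

end Cfsg.Agent.Lib.PSUGraph
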