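import Cfsg.Agent.Lib.PSUGraph.Exists

/-!
# Centraliser and splitting of an involutory graph automorphism of `PSU_n(q)`
-/

set_option autoImplicit false
set_option linter.unusedSectionVars false

namespace Cfsg.Agent.Lib.PSUGraph

open Matrix PSUAut FieldDescent
open PSUField (normOne mem_normOne detU detU_val)
open PSLAut (formOp matSimil mem_matSimil)
open scoped MatrixGroups

variable {F : Type*} [Field F] [Fintype F] {n q : ℕ}
variable {F₀ : Type*} [Field F₀] [Fintype F₀]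

local notation "GUT" => (GUType n F q)
local notation "AutT" => (MulAut (Cfsg.PSU n F q))

variable (hF : Fintype.card F = q ^ 2) {ι : F₀ →+* F} (hι : ∀ x : F, x ^ q = x ↔ ∃ y, ι y = x)
include hF hι

/-- An element of `GU` attached to a similitude `T` of `A`. -/
def IsLift (E : GL (Fin n) F) (T : GL (Fin n) F₀) (ν : Fˣ) (u : GL (Fin n) F) : Prop :=
  u = GeneralLinearGroup.scalar (Fin n) ν⁻¹ * (E * GeneralLinearGroup.map ι T * E⁻¹)

theorem gram_lift {E : GL (Fin n) F} {A : GL (Fin n) F₀} {η : F}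
    (hE : PSUField.gram hF E = η • (A : Matrix (Fin n) (Fin n) F₀).map ι) {T : GL (Fin n) F₀} {c : F₀ˣ}
    (hT : formOp T (A : Matrix (Fin n) (Fin n) F₀) = (c : F₀) • (A : Matrix (Fin n) (Fin n) F₀)) :
    PSUField.gram hF (E * GeneralLinearGroup.map ι T * E⁻¹) = (ι c : F) • 1 := by
  have h1 : PSUField.gram hF (E * E⁻¹) = 1 := by rw [mul_inv_cancel, PSUField.gram_one]
  rw [PSUField.gram_mul, hE] at h1
  rw [PSUField.gram_mul, gram_mul_map hF hι hE, hT, Matrix.map_smul' _ _ _ (map_mul ι), smul_smul,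
    mul_comm η, ← smul_smul, Matrix.mul_smul, Matrix.smul_mul, h1]

theorem exists_lift {E : GL (Fin n) F} {A : GL (Fin n) F₀} (hE : IsFrame hF ι E A) {T : GL (Fin n) F₀}
    {c : F₀ˣ} (hT : formOp T (A : Matrix (Fin n) (Fin n) F₀) = (c : F₀) • (A : Matrix (Fin n) (Fin n) F₀))
    {ν : Fˣ} (hν : (ν : F) * (ν : F) ^ q = ι c) :
    GeneralLinearGroup.scalar (Fin n) ν⁻¹ * (E * GeneralLinearGroup.map ι T * E⁻¹) ∈ Cfsg.GU n F q := by
  obtain ⟨η, hη⟩ := hE
  rw [PSUField.mem_GU_iff_gram hF, gram_scalar_mul, gram_lift hF hι hη hT, smul_smul, ← hν,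
    Units.val_inv_eq_inv_val, inv_pow, ← mul_inv, inv_mul_cancel₀, one_smul]
  exact mul_ne_zero ν.ne_zero (pow_ne_zero _ ν.ne_zero)

theorem conj_lift_eq (hn : 3 ≤ n) {E : GL (Fin n) F} {T : GL (Fin n) F₀} {u u' : GUT}
    (hu : ∃ ν, IsLift (ι := ι) E T ν u.1) (hu' : ∃ ν, IsLift (ι := ι) E T ν u'.1) :
    (conj u : AutT) = conj u' := by
  obtain ⟨ν, hν⟩ := hu
  obtain ⟨ν', hν'⟩ := hu'
  refine (PSUField.conj_eq_conj_iff hF hn u u').2 ⟨ν⁻¹ * ν', ?_⟩
  rw [hν, hν', ← mul_assoc (GeneralLinearGroup.scalar (Fin n) (ν⁻¹ * ν')), ← map_mul, mul_inv_cancel_right]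

theorem conj_lift_commute (hn : 3 ≤ n) {E : GL (Fin n) F} {g : GUT} {μ : Fˣ}
    (hg : g.1 = GeneralLinearGroup.scalar (Fin n) μ * twist hF E) {T : GL (Fin n) F₀} {u : GUT} {ν : Fˣ}
    (hu : IsLift (ι := ι) E T ν u.1) :
    (conj u : AutT) ∈ Subgroup.centralizer {(gaut hF g : AutT)} := by
  rw [Subgroup.mem_centralizer_singleton_iff, ← mul_inv_eq_iff_eq_mul, conj_gaut]
  have hE : u.1 * E = GeneralLinearGroup.scalar (Fin n) ν⁻¹ * (E * GeneralLinearGroup.map ι T) := by
    rw [hu, mul_assoc, mul_assoc, inv_mul_cancel, mul_one]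
  obtain ⟨d, hd⟩ := twist_scalar_mul hF ν⁻¹ (E * GeneralLinearGroup.map ι T)
  refine conj_eq_of_scalar hF hn (c := d) ?_
  rw [Subgroup.coe_mul, Subgroup.coe_mul, Subgroup.coe_inv, coe_guField_bar, hg, pull_scalar, ← twist_mul,
    hE, hd, twist_mul_map hF hι, ← mul_assoc, ← mul_assoc, ← map_mul, ← map_mul, mul_comm]

/-- An element of the centraliser comes from a similitude. -/
theorem exists_of_commute (hn : 3 ≤ n) {E : GL (Fin n) F} {A : GL (Fin n) F₀} (hE : IsFrame hF ι E A)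
    {g : GUT} {μ : Fˣ} (hg : g.1 = GeneralLinearGroup.scalar (Fin n) μ * twist hF E) {u : GUT}
    (hu : (conj u : AutT) ∈ Subgroup.centralizer {(gaut hF g : AutT)}) :
    ∃ (T : GL (Fin n) F₀) (c : F₀ˣ) (ν : Fˣ),
      formOp T (A : Matrix (Fin n) (Fin n) F₀) = (c : F₀) • (A : Matrix (Fin n) (Fin n) F₀) ∧
      (ν : F) * (ν : F) ^ q = ι c ∧ IsLift (ι := ι) E T ν u.1 := by
  obtain ⟨η, hη⟩ := hE
  rw [Subgroup.mem_centralizer_singleton_iff, ← mul_inv_eq_iff_eq_mul, conj_gaut, gaut, gaut, mul_left_inj,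
    PSUField.conj_eq_conj_iff hF hn] at hu
  obtain ⟨d, hd⟩ := hu
  rw [Subgroup.coe_mul, Subgroup.coe_mul, Subgroup.coe_inv, coe_guField_bar, hg, pull_scalar, ← twist_mul,
    ← mul_assoc, ← map_mul] at hd
  have htw : twist hF (u.1 * E) = GeneralLinearGroup.scalar (Fin n) (μ⁻¹ * (d * μ)) * twist hF E := by
    rw [map_mul, mul_assoc, ← hd, ← mul_assoc, ← map_mul, inv_mul_cancel, map_one, one_mul]
  obtain ⟨w, T, hw⟩ := exists_of_twist_eq hF hι (by omega) htw
  have he := congrArg (PSUField.gram hF) hw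
  rw [gram_mul_gu hF u.2, gram_scalar_mul, gram_mul_map hF hι hη, hη, smul_smul] at he
  obtain ⟨c, hc, hAT⟩ := exists_smul_eq hF hι (by omega) (A := A) (B := PSLAut.glForm T A) η.ne_zero
    (b := (w : F) * (w : F) ^ q * η) (by rw [PSLAut.coe_glForm]; exact he)
  rw [PSLAut.coe_glForm] at hAT
  refine ⟨T, c⁻¹, w⁻¹, ?_, ?_, ?_⟩
  · conv_rhs => rw [hAT, smul_smul, Units.inv_mul, one_smul]
  · have h1 : (w : F) * (w : F) ^ q = ι c := mul_right_cancel₀ η.ne_zero (by rw [hc, mul_comm])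
    rw [Units.val_inv_eq_inv_val, inv_pow, ← mul_inv, h1, Units.val_inv_eq_inv_val, map_inv₀]
  · rw [IsLift, inv_inv, ← mul_assoc, ← hw, mul_inv_cancel_right]

/-- The centraliser in `Inndiag` is the projective similitude group of `A`. -/
theorem nonempty_centEquiv (hn : 3 ≤ n) {γ : AutT} {A : GL (Fin n) F₀} (hγ : Rep hF ι γ A) :
    Nonempty (Cfsg.projQuot (matSimil (A : Matrix (Fin n) (Fin n) F₀)) ≃*
      ↥(Cfsg.inndiagPSU n F q ⊓ Subgroup.centralizer {γ})) := by
  classical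
  obtain ⟨E, g, μ, hE, hg, rfl⟩ := hγ
  have hex : ∀ T : ↥(matSimil (A : Matrix (Fin n) (Fin n) F₀)), ∃ (u : GUT) (ν : Fˣ),
      IsLift (ι := ι) E T.1 ν u.1 := by
    rintro ⟨T, c, hc⟩
    obtain ⟨ν, hν⟩ := exists_norm_unit hF hι c
    exact ⟨⟨_, exists_lift hF hι hE hc hν⟩, ν, rfl⟩
  choose u hu using hex
  let f₀ : ↥(matSimil (A : Matrix (Fin n) (Fin n) F₀)) →* AutT := MonoidHom.mk' (fun T => conj (u T))
    (fun S T => by
      rw [← map_mul]
      obtain ⟨ν, hν⟩ := hu S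
      obtain ⟨ν', hν'⟩ := hu T
      refine conj_lift_eq hF hι hn (E := E) (T := S.1 * T.1) ?_ ?_
      · obtain ⟨ν₀, hν₀⟩ := hu (S * T)
        exact ⟨ν₀, hν₀⟩
      · refine ⟨ν' * ν, ?_⟩
        rw [IsLift, Subgroup.coe_mul, hν, hν', map_mul (GeneralLinearGroup.map ι)]
        rw [mul_assoc (GeneralLinearGroup.scalar (Fin n) ν⁻¹),
          show (E * GeneralLinearGroup.map ι S.1 * E⁻¹) *
              (GeneralLinearGroup.scalar (Fin n) ν'⁻¹ * (E * GeneralLinearGroup.map ι T.1 * E⁻¹))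
            = GeneralLinearGroup.scalar (Fin n) ν'⁻¹ * ((E * GeneralLinearGroup.map ι S.1 * E⁻¹) *
              (E * GeneralLinearGroup.map ι T.1 * E⁻¹) * 1) by
                conv_rhs => rw [← pull_scalar, mul_one],
          ← mul_assoc (GeneralLinearGroup.scalar (Fin n) ν⁻¹), ← map_mul, _root_.mul_inv_rev]
        group)
  let f := f₀.codRestrict (Cfsg.inndiagPSU n F q ⊓ Subgroup.centralizer {(gaut hF g : AutT)}) fun T =>
    ⟨inndiagPSU_eq_range.ge ⟨u T, rfl⟩, by
      obtain ⟨ν, hν⟩ := hu T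
      exact conj_lift_commute hF hι hn hg hν⟩
  have hker : f.ker = (Cfsg.Geo.scalars (Fin n) F₀).subgroupOf (matSimil (A : Matrix (Fin n) (Fin n) F₀)) := by
    ext T
    rw [MonoidHom.mem_ker, Subtype.ext_iff, Subgroup.mem_subgroupOf, Cfsg.Geo.mem_scalars_iff]
    show (conj (u T) : AutT) = 1 ↔ _
    rw [PSUField.conj_eq_one_iff hF hn]
    obtain ⟨ν, hν⟩ := hu T
    rw [hν]
    constructor
    · rintro ⟨c, hc⟩
      have hT : GeneralLinearGroup.map ι T.1 = GeneralLinearGroup.scalar (Fin n) (ν * c) := by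
        calc GeneralLinearGroup.map ι T.1
            = E⁻¹ * (GeneralLinearGroup.scalar (Fin n) ν * (GeneralLinearGroup.scalar (Fin n) ν⁻¹ *
              (E * GeneralLinearGroup.map ι T.1 * E⁻¹))) * E := by
                rw [← mul_assoc (GeneralLinearGroup.scalar (Fin n) ν), ← map_mul, mul_inv_cancel, map_one]; group
          _ = _ := by
              rw [hc, ← map_mul, ← mul_one (GeneralLinearGroup.scalar (Fin n) (ν * c)), pull_scalar,
                mul_one, inv_mul_cancel, mul_one]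
      let i₀ : Fin n := ⟨0, by omega⟩
      have hval : ∀ i j, ι ((T.1 : Matrix (Fin n) (Fin n) F₀) i j) = Matrix.scalar (Fin n) ((ν * c : Fˣ) : F) i j :=
        fun i j => congrArg (fun x : GL (Fin n) F => (x : Matrix (Fin n) (Fin n) F) i j) hT
      have hne : (T.1 : Matrix (Fin n) (Fin n) F₀) i₀ i₀ ≠ 0 := fun h0 => (ν * c).ne_zero (by
        have := hval i₀ i₀
        rw [h0, map_zero] at this
        simpa using this.symm)
      refine ⟨Units.mk0 _ hne, Matrix.ext fun i j => ι.injective ?_⟩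
      rw [hval]
      rcases eq_or_ne i j with rfl | hij
      · have := hval i₀ i₀
        simp [GeneralLinearGroup.coe_scalar] at this ⊢
        exact this.symm
      · simp [GeneralLinearGroup.coe_scalar, hij]
    · rintro ⟨c, hc⟩
      have hc' : T.1 = GeneralLinearGroup.scalar (Fin n) c := Units.ext (by
        rw [hc, GeneralLinearGroup.coe_scalar, Matrix.smul_one_eq_diagonal]; rfl)
      refine ⟨ν⁻¹ * Units.map ι.toMonoidHom c, ?_⟩
      rw [hc', GeneralLinearGroup.map_scalar, ← mul_one (GeneralLinearGroup.scalar (Fin n) (Units.map _ c)),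
        pull_scalar, mul_one, mul_inv_cancel, mul_one, ← map_mul]
      rfl
  have hsurj : Function.Surjective f := by
    rintro ⟨y, hy1, hy2⟩
    obtain ⟨k, rfl⟩ := inndiagPSU_eq_range.le hy1
    obtain ⟨T, c, ν, hT, -, hk⟩ := exists_of_commute hF hι hn hE hg hy2
    exact ⟨⟨T, c, hT⟩, Subtype.ext (conj_lift_eq hF hι hn (hu _) ⟨ν, hk⟩)⟩
  exact ⟨(QuotientGroup.quotientMulEquivOfEq hker.symm).trans
    (QuotientGroup.quotientKerEquivOfSurjective f hsurj)⟩

/-- A matching standard matrix gives the centraliser. -/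
theorem nonempty_cent_equiv (hn : 3 ≤ n) {κ : Type} [Fintype κ] [DecidableEq κ] {γ : AutT}
    {A : GL (Fin n) F₀} (hγ : Rep hF ι γ A) {B : Matrix κ κ F₀} (hA : PSLAut.Matches A B) :
    Nonempty (↥(Cfsg.inndiagPSU n F q ⊓ Subgroup.centralizer {γ}) ≃* Cfsg.projQuot (matSimil B)) := by
  obtain ⟨e⟩ := nonempty_centEquiv hF hι hn hγ
  obtain ⟨e'⟩ := PSLAut.nonempty_cent_equiv hA
  exact ⟨e.symm.trans ((PSLAut.graphCentEquiv A).trans e')⟩

/-- The determinants in `GU` of the elements centralising `γ`. -/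
def IsCentDet (A : GL (Fin n) F₀) (x : ↥(normOne F q)) : Prop :=
  ∃ (T : GL (Fin n) F₀) (c : F₀ˣ) (ν : Fˣ),
    formOp T (A : Matrix (Fin n) (Fin n) F₀) = (c : F₀) • (A : Matrix (Fin n) (Fin n) F₀) ∧
    (ν : F) * (ν : F) ^ q = ι c ∧
    ((x : Fˣ) : F) * (ν : F) ^ n = ι (T : Matrix (Fin n) (Fin n) F₀).det

/-- The number of classes into which the class of `γ` splits. -/
theorem splitClassCount_eq (hn : 3 ≤ n) {γ : AutT} {A : GL (Fin n) F₀} (hγ : Rep hF ι γ A)
    (D : Subgroup ↥(normOne F q))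
    (h1 : ∀ x, IsCentDet (ι := ι) A x → x ∈ (powMonoidHom n : ↥(normOne F q) →* _).range ⊔ D)
    (h2 : ∀ x ∈ D, IsCentDet (ι := ι) A x) :
    Cfsg.splitClassCount (Cfsg.inndiagPSU n F q) (Cfsg.Inn (Cfsg.PSU n F q)) γ
      = ((powMonoidHom n : ↥(normOne F q) →* _).range ⊔ D).index := by
  obtain ⟨E, g, μ, hE, hg, rfl⟩ := hγ
  haveI := PSUField.normal_comap_inn (F := F) (n := n) (q := q)
  have hn1 : 1 ≤ n := by omega
  rw [inndiagPSU_eq_range, SplitClass.splitClassCount_range _ _ PSUField.inn_le_range,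
    PSUField.comap_inn hF hn]
  set C := (Subgroup.centralizer {(gaut hF g : AutT)}).comap (conj : GUT →* _)
  set P := (powMonoidHom n : ↥(normOne F q) →* _).range
  have hs := PSUField.detU_surjective (F := F) hF hn1
  have hdet : ∀ {u : GUT} {T : GL (Fin n) F₀} {ν : Fˣ}, IsLift (ι := ι) E T ν u.1 →
      ((detU hF u : ↥(normOne F q)) : Fˣ) * ν ^ n = Units.map ι.toMonoidHom (GeneralLinearGroup.det T) := by
    intro u T ν hu
    rw [detU_val, hu, map_mul, GeneralLinearGroup.det_scalar, Fintype.card_fin, map_mul, map_mul, map_inv,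
      mul_comm (GeneralLinearGroup.det E), mul_inv_cancel_right, inv_pow, mul_comm, mul_inv_cancel_left]
    exact Units.ext (RingHom.map_det ι _).symm
  have h : P.comap (detU hF) ⊔ C = (P ⊔ D).comap (detU hF) := by
    have hk : (detU (n := n) hF).ker ≤ P.comap (detU hF) :=
      fun g hg => by simp [Subgroup.mem_comap, MonoidHom.mem_ker.mp hg, one_mem]
    conv_lhs => rw [← sup_eq_left.mpr (hk.trans le_sup_left : _ ≤ P.comap (detU hF) ⊔ C),
      ← Subgroup.comap_map_eq, Subgroup.map_sup, Subgroup.map_comap_eq_self_of_surjective hs]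
    congr 1
    refine le_antisymm (sup_le le_sup_left ?_) (sup_le le_sup_left ?_)
    · rintro _ ⟨u, hu, rfl⟩
      obtain ⟨T, c, ν, hT, hν, hlift⟩ := exists_of_commute hF hι hn hE hg hu
      refine h1 _ ⟨T, c, ν, hT, hν, ?_⟩
      have := congrArg Units.val (hdet hlift)
      simpa using this
    · intro x hx
      refine Subgroup.mem_sup_right ?_
      obtain ⟨T, c, ν, hT, hν, hx⟩ := h2 x hx
      let u : GUT := ⟨_, exists_lift hF hι hE hT hν⟩
      have hu : IsLift (ι := ι) E T ν u.1 := rfl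
      refine ⟨u, conj_lift_commute hF hι hn hg hu, ?_⟩
      refine Subtype.ext (mul_right_cancel (b := ν ^ n) ?_)
      rw [hdet hu]
      exact Units.ext (by simpa using hx.symm)
  rw [h, Subgroup.index_comap_of_surjective _ hs]

end Cfsg.Agent.Lib.PSUGraph
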