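import Cfsg.Agent.Lib.PSUGraph.Basic
import Cfsg.Agent.Lib.PSUAut.Main
import Cfsg.Agent.Lib.PSUAut.Structure

/-!
# Every involutory graph automorphism of `PSU_n(q)` is attached to a form
-/

set_option autoImplicit false
set_option linter.unusedSectionVars false

namespace Cfsg.Agent.Lib.PSUGraph

open Matrix PSUAut FieldDescent
open scoped MatrixGroups

variable {F : Type*} [Field F] [Fintype F] {n q : ℕ}
variable {F₀ : Type*} [Field F₀] [Fintype F₀]

local notation "GUT" => (GUType n F q)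
local notation "AutT" => (MulAut (Cfsg.PSU n F q))

variable (hF : Fintype.card F = q ^ 2)
include hF

theorem gram_twist (E : GL (Fin n) F) :
    PSUField.gram hF (twist hF E) = (((E : Matrix (Fin n) (Fin n) F).map (barEquiv hF))⁻¹)ᵀ *
      PSUField.gram hF E * ((E⁻¹ : GL (Fin n) F) : Matrix (Fin n) (Fin n) F) := by
  rw [twist, PSUField.gram_mul, ← coe_barGL, ← coe_barGL, map_inv, barGL_barGL, Matrix.coe_units_inv]

theorem bar_ne_one : barEquiv hF ≠ (1 : F ≃+* F) := fun h => by
  have := orderOf_barEquiv hF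
  rw [h, orderOf_one] at this
  omega

theorem isGraph_gaut (hn : 3 ≤ n) (g : GUT) : Cfsg.IsGraphAutClassPSU (gaut hF g) :=
  ⟨hn, conj g, fieldAut (barEquiv hF), barEquiv hF, by rw [orderOf_barEquiv]; exact even_two,
    (isInnerDiagonal_iff _).2 ⟨g, rfl⟩, (isFieldAutOf_iff _ _).2 rfl, rfl⟩

theorem gaut_sq (g : GUT) : (gaut hF g : AutT) ^ 2 = conj (g * guField (barEquiv hF) g) := by
  rw [gaut, sq, mul_assoc, ← mul_assoc (fieldAut _), fieldAut_mul_conj, mul_assoc (conj (guField _ g)),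
    ← map_mul fieldAut, show barEquiv hF * barEquiv hF = (1 : F ≃+* F) from RingEquiv.ext (bar_bar hF),
    map_one, mul_one, map_mul]

theorem gaut_ne_one (hn : 3 ≤ n) {r : ℕ} [Fact r.Prime] [CharP F r] (g : GUT) : (gaut hF g : AutT) ≠ 1 :=
  fun h => bar_ne_one hF (eq_one_and_scalar_of_eq_one (p := r) hF hn g _ h).1

variable {ι : F₀ →+* F} (hι : ∀ x : F, x ^ q = x ↔ ∃ y, ι y = x)
include hι

theorem orderOf_of_rep (hn : 3 ≤ n) {r : ℕ} [Fact r.Prime] [CharP F r] {γ : AutT} {A : GL (Fin n) F₀}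
    (hγ : Rep hF ι γ A) : orderOf γ = 2 := by
  obtain ⟨E, g, μ, -, hg, rfl⟩ := hγ
  refine orderOf_eq_prime ?_ (gaut_ne_one hF hn (r := r) g)
  rw [gaut_sq, PSUField.conj_eq_one_iff hF hn]
  refine ⟨μ * Units.map (barEquiv hF).toRingHom.toMonoidHom μ, ?_⟩
  rw [Subgroup.coe_mul, coe_guField_bar, hg, map_mul (barGL hF), barGL_scalar,
    map_mul (GeneralLinearGroup.scalar (Fin n)), twist, map_mul, map_inv, barGL_barGL]
  calc GeneralLinearGroup.scalar (Fin n) μ * (E * (barGL hF E)⁻¹) *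
        (GeneralLinearGroup.scalar (Fin n) (Units.map (barEquiv hF).toRingHom.toMonoidHom μ) *
          (barGL hF E * E⁻¹))
      = GeneralLinearGroup.scalar (Fin n) μ * (E * (barGL hF E)⁻¹ *
          (GeneralLinearGroup.scalar (Fin n) (Units.map (barEquiv hF).toRingHom.toMonoidHom μ) *
            (barGL hF E * E⁻¹)) * 1) := by group
    _ = _ := by rw [pull_scalar]; group

theorem isGraph_of_rep (hn : 3 ≤ n) {γ : AutT} {A : GL (Fin n) F₀} (hγ : Rep hF ι γ A) :
    Cfsg.IsGraphAutClassPSU γ := by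
  obtain ⟨E, g, μ, -, -, rfl⟩ := hγ
  exact isGraph_gaut hF hn g

theorem exists_eta {d : F₀} (hd : d = 1 ∨ d = -1) : ∃ η : Fˣ, barEquiv hF (η : F) = ι d * η := by
  rcases hd with rfl | rfl
  · exact ⟨1, by rw [Units.val_one, map_one, map_one, mul_one]⟩
  · obtain ⟨ξ, hξ0, hξ⟩ := exists_skew' hF
    refine ⟨Units.mk0 ξ hξ0, ?_⟩
    rw [map_neg, map_one, neg_one_mul, barEquiv_apply, Units.val_mk0]
    exact eq_neg_of_add_eq_zero_right hξ

/-- Every symmetric or skew matrix is represented. -/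
theorem exists_rep (hn : 1 ≤ n) (A : GL (Fin n) F₀) {d : F₀} (hd : d = 1 ∨ d = -1)
    (hA : (A : Matrix (Fin n) (Fin n) F₀)ᵀ = d • (A : Matrix (Fin n) (Fin n) F₀)) :
    ∃ γ : AutT, Rep hF ι γ A := by
  obtain ⟨η, hη⟩ := exists_eta hF hι hd
  set H := GeneralLinearGroup.scalar (Fin n) η * GeneralLinearGroup.map ι A with hHdef
  have hH : (H : Matrix (Fin n) (Fin n) F) = (η : F) • (A : Matrix (Fin n) (Fin n) F₀).map ι :=
    coe_scalar_mul _ _
  have hdd : ι d * ι d = 1 := by rcases hd with rfl | rfl <;> simp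
  have hherm : ((H : Matrix (Fin n) (Fin n) F).map (barEquiv hF))ᵀ = (H : Matrix (Fin n) (Fin n) F) := by
    rw [hH, Matrix.map_smul' _ _ _ (map_mul (barEquiv hF)), map_map_bar hF hι, Matrix.transpose_smul,
      ← Matrix.transpose_map, hA, Matrix.map_smul' _ _ _ (map_mul ι), smul_smul, hη,
      mul_right_comm, hdd, one_mul]
  obtain ⟨h, hh⟩ := exists_mul_map_transpose (barEquiv hF) (orderOf_barEquiv hF) H hherm
  set E : GL (Fin n) F := PSLAut.glInvTrans h⁻¹ with hE
  have hgE : PSUField.gram hF E = (η : F) • (A : Matrix (Fin n) (Fin n) F₀).map ι := by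
    rw [← hH, hh, PSUField.gram, hE, PSLAut.coe_glInvTrans, inv_inv, Matrix.transpose_transpose,
      Matrix.transpose_map]
  -- the norm of the twist
  have hgt : PSUField.gram hF (twist hF E) = (ι d : F) • 1 := by
    have hb : (η : F) • (A : Matrix (Fin n) (Fin n) F₀).map ι
        = ι d • (((E : Matrix (Fin n) (Fin n) F).map (barEquiv hF))ᵀ * (E : Matrix (Fin n) (Fin n) F)) := by
      have h1 := congrArg (fun X : Matrix (Fin n) (Fin n) F => X.map (barEquiv hF)) hgE
      simp only [PSUField.gram, Matrix.map_mul, ← Matrix.transpose_map] at h1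
      rw [Matrix.map_smul' _ _ _ (map_mul (barEquiv hF)), map_map_bar hF hι, hη] at h1
      rw [show ((E : Matrix (Fin n) (Fin n) F).map (barEquiv hF)).map (barEquiv hF) = (E : Matrix (Fin n) (Fin n) F)
        from Matrix.ext fun _ _ => bar_bar hF _] at h1
      rw [← Matrix.transpose_map, h1, smul_smul, ← mul_assoc, hdd, one_mul]
    rw [gram_twist, hgE, hb, Matrix.mul_smul, Matrix.smul_mul, ← Matrix.mul_assoc, ← Matrix.transpose_mul,
      Matrix.mul_nonsing_inv ((E : Matrix (Fin n) (Fin n) F).map (barEquiv hF)) ((Matrix.isUnit_iff_isUnit_det _).1 (barGL hF E).isUnit),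
      Matrix.transpose_one, Matrix.one_mul, Units.mul_inv]
  obtain ⟨μ, hμ⟩ := exists_norm_unit hF hι (Units.mk0 d (by rcases hd with rfl | rfl <;> simp))
  have hmem : GeneralLinearGroup.scalar (Fin n) μ * twist hF E ∈ Cfsg.GU n F q := by
    rw [PSUField.mem_GU_iff_gram hF, gram_scalar_mul, hgt, smul_smul, hμ, Units.val_mk0, hdd, one_smul]
  exact ⟨_, E, ⟨_, hmem⟩, μ, ⟨η, hgE⟩, rfl, rfl⟩

/-- Every involutory graph automorphism is represented. -/
theorem exists_rep_of_graph (hn : 3 ≤ n) {r : ℕ} [Fact r.Prime] [CharP F r] {γ : AutT}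
    (hγ : Cfsg.IsGraphAutClassPSU γ) (hγ2 : orderOf γ = 2) :
    ∃ (A : GL (Fin n) F₀), Rep hF ι γ A ∧
      ((A : Matrix (Fin n) (Fin n) F₀)ᵀ = (A : Matrix (Fin n) (Fin n) F₀) ∨
        (A : Matrix (Fin n) (Fin n) F₀)ᵀ = -(A : Matrix (Fin n) (Fin n) F₀)) := by
  classical
  obtain ⟨-, δ', φ, τ, hev, hδ', hφ, rfl⟩ := hγ
  obtain ⟨g, rfl⟩ := (isInnerDiagonal_iff _).1 hδ'
  obtain rfl := (isFieldAutOf_iff τ φ).1 hφ
  have hsq : (conj g * fieldAut τ : AutT) ^ 2 = 1 := by rw [← hγ2, pow_orderOf_eq_one]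
  have hτ2 : τ ^ 2 = 1 := by
    have h := hsq
    rw [sq, mul_assoc, ← mul_assoc (fieldAut _), fieldAut_mul_conj, mul_assoc (conj (guField _ g)),
      ← map_mul fieldAut, ← mul_assoc, ← map_mul, ← sq τ] at h
    exact (eq_one_and_scalar_of_eq_one (p := r) hF hn _ _ h).1
  have hτ : orderOf τ = 2 := orderOf_eq_prime hτ2 fun h => by simp [h] at hev
  obtain rfl : τ = barEquiv hF := PSLAut.involution_unique hτ (orderOf_barEquiv hF)
  change (gaut hF g : AutT) ^ 2 = 1 at hsq
  rw [gaut_sq, PSUField.conj_eq_one_iff hF hn, Subgroup.coe_mul, coe_guField_bar] at hsq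
  obtain ⟨c, hc⟩ := hsq
  have hc1 : c ^ (q + 1) = 1 := pow_eq_one_of_scalar_mem hF (by omega : 1 ≤ n) c
    (hc ▸ mul_mem g.2 (guField (barEquiv hF) g).2)
  have hcb : Units.map (barEquiv hF).toRingHom.toMonoidHom c = c := by
    have h1 := congrArg (barGL hF) hc
    rw [map_mul, barGL_barGL, barGL_scalar] at h1
    have h2 : barGL hF g.1 * g.1 = GeneralLinearGroup.scalar (Fin n) c := by
      rw [show barGL hF g.1 = g.1⁻¹ * GeneralLinearGroup.scalar (Fin n) c by rw [← hc, inv_mul_cancel_left],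
        mul_assoc, GeneralLinearGroup.scalar_commute, inv_mul_cancel_left]
    have h3 := congrArg (fun X : GL (Fin n) F => (X : Matrix (Fin n) (Fin n) F) ⟨0, by omega⟩ ⟨0, by omega⟩)
      (h1.symm.trans h2)
    exact Units.ext (by simpa [GeneralLinearGroup.coe_scalar] using h3)
  have hcq : (c : F) ^ q = c := by rw [← barEquiv_apply hF]; exact congrArg Units.val hcb
  have hc2 : (c : F) * c = 1 := by
    have h := congrArg Units.val hc1
    rw [Units.val_pow_eq_pow_val, pow_succ, hcq, Units.val_one] at h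
    exact h
  obtain ⟨d, hd⟩ := (hι _).1 hcq
  have hd' : d = 1 ∨ d = -1 := mul_self_eq_one_iff.1 (ι.injective (by rw [map_mul, hd, hc2, map_one]))
  obtain ⟨μ, hμ⟩ := exists_norm_unit hF hι (Units.mk0 d (by rcases hd' with rfl | rfl <;> simp))
  rw [Units.val_mk0, hd] at hμ
  set g' := GeneralLinearGroup.scalar (Fin n) μ * g.1 with hg'
  have hN : iterProd (barEquiv hF) g' (orderOf (barEquiv hF)) = 1 := by
    rw [orderOf_barEquiv]
    show g' * barGL hF (g' * barGL hF 1) = 1
    rw [map_one, mul_one, hg', map_mul, barGL_scalar, mul_assoc]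
    calc GeneralLinearGroup.scalar (Fin n) μ * (g.1 *
          (GeneralLinearGroup.scalar (Fin n) (Units.map (barEquiv hF).toRingHom.toMonoidHom μ) * barGL hF g.1))
        = GeneralLinearGroup.scalar (Fin n) μ * (g.1 *
          (GeneralLinearGroup.scalar (Fin n) (Units.map (barEquiv hF).toRingHom.toMonoidHom μ) *
            barGL hF g.1) * 1) := by group
      _ = 1 := by
        rw [pull_scalar, mul_one, hc, ← map_mul, ← map_mul, ← map_one (GeneralLinearGroup.scalar (Fin n))]
        congr 1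
        ext
        rw [Units.val_mul, Units.val_mul, Units.coe_map]
        show (μ : F) * (barEquiv hF (μ : F) * (c : F)) = 1
        rw [barEquiv_apply, ← mul_assoc, hμ, hc2]
  obtain ⟨E, hE⟩ := exists_eq_mul_map_inv (barEquiv hF) g' hN
  change g' = twist hF E at hE
  -- the Gram matrix of `E` is a multiple of a matrix over `F₀`
  set B := (((E : Matrix (Fin n) (Fin n) F).map (barEquiv hF))ᵀ * (E : Matrix (Fin n) (Fin n) F)) with hB
  have hgr : PSUField.gram hF (twist hF E) = (c : F) • 1 := by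
    rw [← hE, hg', gram_scalar_mul, (PSUField.mem_GU_iff_gram hF _).1 g.2, hμ]
  have hGE : PSUField.gram hF E = (c : F) • B := by
    rw [gram_twist] at hgr
    have h1 := congrArg (fun X => ((E : Matrix (Fin n) (Fin n) F).map (barEquiv hF))ᵀ * X *
      (E : Matrix (Fin n) (Fin n) F)) hgr
    simp only [← Matrix.mul_assoc, ← Matrix.transpose_mul] at h1
    rw [Matrix.nonsing_inv_mul ((E : Matrix (Fin n) (Fin n) F).map (barEquiv hF)) ((Matrix.isUnit_iff_isUnit_det _).1 (barGL hF E).isUnit),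
      Matrix.transpose_one, Matrix.one_mul, Matrix.mul_assoc (PSUField.gram hF E), Units.inv_mul, Matrix.mul_one,
      Matrix.mul_smul, Matrix.mul_one, Matrix.smul_mul] at h1
    exact h1
  obtain ⟨η, hη⟩ := exists_eta hF hι hd'
  rw [hd] at hη
  set S : Matrix (Fin n) (Fin n) F := (η⁻¹ : Fˣ).val • PSUField.gram hF E with hS
  have hSbar : S.map (barEquiv hF) = S := by
    have hgb : (PSUField.gram hF E).map (barEquiv hF) = B := by
      rw [PSUField.gram, Matrix.map_mul, hB, ← Matrix.transpose_map]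
      congr 1
      exact Matrix.ext fun _ _ => bar_bar hF _
    rw [hS, Matrix.map_smul' _ _ _ (map_mul (barEquiv hF)), hgb, hGE, smul_smul, Units.val_inv_eq_inv_val,
      map_inv₀, hη, mul_inv, inv_eq_of_mul_eq_one_right hc2, mul_comm]
  choose A₀ hA₀ using fun i j => (hι (S i j)).1 (by
    rw [← barEquiv_apply hF]; exact congrFun (congrFun hSbar i) j)
  have hAS : (Matrix.of A₀).map ι = S := Matrix.ext fun i j => hA₀ i j
  have hdet : (Matrix.of A₀).det ≠ 0 := fun h0 => by
    have h1 : S.det = 0 := by rw [← hAS]; exact (RingHom.map_det ι _).symm.trans (by rw [h0, map_zero])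
    rw [hS, Matrix.det_smul] at h1
    exact mul_ne_zero (pow_ne_zero _ (Units.ne_zero _)) (det_gram_ne_zero hF E) h1
  refine ⟨GeneralLinearGroup.mkOfDetNeZero _ hdet, ⟨E, g, μ⁻¹, ⟨η, ?_⟩, ?_, rfl⟩, ?_⟩
  · show _ = (η : F) • (Matrix.of A₀).map ι
    rw [hAS, hS, smul_smul, Units.mul_inv, one_smul]
  · rw [← hE, hg', ← mul_assoc, ← map_mul, inv_mul_cancel, map_one, one_mul]
  · have hTr : (Matrix.of A₀)ᵀ = d • Matrix.of A₀ := by
      refine Matrix.map_injective ι.injective ?_
      show (Matrix.of A₀)ᵀ.map ι = (d • Matrix.of A₀).map ι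
      rw [Matrix.map_smul' _ _ _ (map_mul ι), hd, Matrix.transpose_map, hAS]
      have h1 := gram_conjTranspose hF E
      rw [show PSUField.gram hF E = (η : F) • S by rw [hS, smul_smul, Units.mul_inv, one_smul],
        Matrix.map_smul' _ _ _ (map_mul (barEquiv hF)), hSbar, hη, Matrix.transpose_smul] at h1
      refine smul_right_injective _ η.ne_zero ?_
      show (η : F) • Sᵀ = (η : F) • (c : F) • S
      rw [smul_comm, ← h1, smul_smul, ← mul_assoc, hc2, one_mul]
    rcases hd' with rfl | rfl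
    · exact Or.inl (by simpa using hTr)
    · exact Or.inr (by simpa using hTr)

end Cfsg.Agent.Lib.PSUGraph
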