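import Cfsg.Agent.Lib.PSUGraph.Split

/-!
# The classes of involutory graph automorphisms of `PSU_n(q)`
-/

set_option autoImplicit false
set_option linter.unusedSectionVars false

namespace Cfsg.Agent.Lib.PSUGraph

open Matrix PSUAut PSLAut
open scoped MatrixGroups

variable {F : Type*} [Field F] [Fintype F] {n q : ℕ}
variable {F₀ : Type*} [Field F₀] [Fintype F₀]

local notation "AutT" => (MulAut (Cfsg.PSU n F q))

theorem exists_prime_char (F : Type*) [Field F] [Fintype F] : ∃ r : ℕ, Fact r.Prime ∧ CharP F r := by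
  obtain ⟨r, hr⟩ := CharP.exists F
  haveI := hr
  exact ⟨r, ⟨CharP.char_is_prime F r⟩, hr⟩

theorem two_ne_zero_iff (hF₀ : Fintype.card F₀ = q) : (2 : F₀) ≠ 0 ↔ Odd q := by
  constructor
  · intro h
    rw [← hF₀, Nat.odd_iff]
    exact FiniteField.odd_card_of_char_ne_two fun h' => h (by
      have := ringChar.Nat.cast_ringChar (R := F₀); rw [h'] at this; simpa using this)
  · intro h
    exact Classical.two_ne_zero_of_odd_card (hF₀ ▸ h)

theorem neg_eq_self (h2 : (2 : F₀) = 0) {ι : Type*} (A : Matrix ι ι F₀) : -A = A := by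
  haveI : CharP F₀ 2 := CharTwo.of_one_ne_zero_of_two_eq_zero one_ne_zero h2
  ext i j; exact CharTwo.neg_eq _

/-- In odd dimension all representing matrices are congruent to one standard matrix. -/
theorem matches_std {m : ℕ} (hnm : n = 2 * m + 1) {A : GL (Fin n) F₀}
    (hA : (A : Matrix (Fin n) (Fin n) F₀)ᵀ = (A : Matrix (Fin n) (Fin n) F₀) ∨
        (A : Matrix (Fin n) (Fin n) F₀)ᵀ = -(A : Matrix (Fin n) (Fin n) F₀))
    (e : Unit ⊕ (Fin m ⊕ Fin m) ≃ Fin n) :
    ∃ (h : GL (Fin n) F₀) (c : F₀ˣ),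
      ((2 : F₀) ≠ 0 → formOp h (A : Matrix (Fin n) (Fin n) F₀) = (c : F₀) • (oddMat m F₀).submatrix e.symm e.symm) ∧
      ((2 : F₀) = 0 → formOp h (A : Matrix (Fin n) (Fin n) F₀) = (c : F₀) • (oddAltMat m F₀).submatrix e.symm e.symm) := by
  classical
  by_cases h2 : (2 : F₀) = 0
  · have hM : (A : Matrix (Fin n) (Fin n) F₀)ᵀ = (A : Matrix (Fin n) (Fin n) F₀) := by
      rcases hA with h | h
      · exact h
      · rw [h, neg_eq_self h2]
    rcases exists_formOp_char_two h2 hM (GeneralLinearGroup.det_ne_zero A) with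
      ⟨b, e', -, -⟩ | ⟨b, e', h, hh⟩ | ⟨b, e', -, -, -, -⟩
    · have := Fintype.card_congr e'; simp at this; omega
    · have hb : b = m := by have := Fintype.card_congr e'; simp at this; omega
      subst hb
      obtain ⟨k, hk⟩ := exists_formOp_reindex (oddAltMat b F₀) e e'
      exact ⟨h * k, 1, fun h' => absurd h2 h', fun _ => by
        rw [formOp_mul, hh, hk, Units.val_one, one_smul]⟩
    · have := Fintype.card_congr e'; simp at this; omega
  · rcases hA with hM | hM
    · obtain ⟨h, c, hh⟩ := matches_odd h2 hnm hM e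
      exact ⟨h, c, fun _ => hh, fun h' => absurd h' h2⟩
    · exfalso
      have h1 := congrArg Matrix.det hM
      rw [det_transpose, det_neg, Fintype.card_fin, Odd.neg_one_pow ⟨m, hnm⟩] at h1
      refine GeneralLinearGroup.det_ne_zero A ((mul_eq_zero.mp ?_).resolve_left h2)
      linear_combination h1

variable (hF : Fintype.card F = q ^ 2) {ι : F₀ →+* F} (hι : ∀ x : F, x ^ q = x ↔ ∃ y, ι y = x)
include hF hι

theorem conj_of_std (hn : 3 ≤ n) {κ : Type} [Fintype κ] [DecidableEq κ] (e : κ ≃ Fin n) (B : Matrix κ κ F₀)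
    (hB : B.det ≠ 0) {γ γ' : AutT} {A : GL (Fin n) F₀} (hγ : Rep hF ι γ A)
    (hγ' : Rep hF ι γ' (glOfMat e B hB)) {h : GL (Fin n) F₀} {c : F₀ˣ}
    (hh : formOp h (A : Matrix (Fin n) (Fin n) F₀) = (c : F₀) • B.submatrix e.symm e.symm) :
    Cfsg.IsConjUnder (Cfsg.inndiagPSU n F q) γ' γ := by
  obtain ⟨x, hx, hxe⟩ := isConjUnder_of_rep hF hι hn hγ hγ' (h := h) (c := c) (by rw [coe_glOfMat, hh])
  exact ⟨x⁻¹, inv_mem hx, by rw [hxe]; group⟩

theorem rep_fieldAut (hn : 3 ≤ n) : Rep hF ι (fieldAut (FieldDescent.barEquiv hF) : AutT) 1 := by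
  refine ⟨1, 1, 1, ⟨1, ?_⟩, ?_, ?_⟩
  · rw [PSUField.gram_one, Units.val_one, one_smul, Units.val_one, Matrix.map_one _ (map_zero ι) (map_one ι)]
  · rw [twist, map_one, one_mul, map_one, inv_one, mul_one]; rfl
  · rw [gaut, map_one, one_mul]

end Cfsg.Agent.Lib.PSUGraph
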