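import Cfsg.Agent.Lib.PSUGraph.Cent

/-!
# The number of classes for each type of form
-/

set_option autoImplicit false
set_option linter.unusedSectionVars false

namespace Cfsg.Agent.Lib.PSUGraph

open Matrix PSUAut
open PSUField (normOne mem_normOne)
open PSLAut (formOp matSimil mem_matSimil formOp_mul formOp_smul)
open scoped MatrixGroups

variable {n : ℕ}
variable {F₀ : Type*} [Field F₀] [Fintype F₀]

/-- Similitudes are carried along a matching. -/
theorem simil_of_matches {κ : Type} [Fintype κ] [DecidableEq κ] {A : GL (Fin n) F₀} {B : Matrix κ κ F₀}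
    (hA : PSLAut.Matches A B) :
    (∀ (g : GL κ F₀) (d : F₀ˣ), formOp g B = (d : F₀) • B →
      ∃ T : GL (Fin n) F₀, formOp T (A : Matrix (Fin n) (Fin n) F₀) = (d : F₀) • (A : Matrix (Fin n) (Fin n) F₀) ∧
        GeneralLinearGroup.det T = GeneralLinearGroup.det g) ∧
    (∀ (T : GL (Fin n) F₀) (d : F₀ˣ),
      formOp T (A : Matrix (Fin n) (Fin n) F₀) = (d : F₀) • (A : Matrix (Fin n) (Fin n) F₀) →
      ∃ g : GL κ F₀, formOp g B = (d : F₀) • B ∧ GeneralLinearGroup.det g = GeneralLinearGroup.det T) := by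
  obtain ⟨e, h, c, hh⟩ := hA
  have hdet : ∀ g, GeneralLinearGroup.det (h * PSLAut.glReindex e g * h⁻¹) = GeneralLinearGroup.det g := by
    intro g
    rw [map_mul, map_mul, map_inv, PSLAut.det_glReindex, mul_comm, inv_mul_cancel_left]
  have hstd : ∀ (g : GL κ F₀) (d : F₀ˣ), formOp g B = (d : F₀) • B ↔
      formOp (h * PSLAut.glReindex e g * h⁻¹) (A : Matrix (Fin n) (Fin n) F₀)
        = (d : F₀) • (A : Matrix (Fin n) (Fin n) F₀) := by
    intro g d
    rw [formOp_mul, formOp_mul, hh, formOp_smul, PSLAut.formOp_glReindex]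
    constructor
    · intro he
      rw [he, show ((d : F₀) • B).submatrix e.symm e.symm = (d : F₀) • B.submatrix e.symm e.symm from rfl,
        formOp_smul, formOp_smul, PSLAut.formOp_inv hh, smul_smul, smul_smul]
      congr 1
      field_simp
      simp
    · intro he
      have h1 := congrArg (formOp h) he
      rw [← formOp_mul, inv_mul_cancel, PSLAut.formOp_one, formOp_smul, hh, smul_comm] at h1
      have h3 := smul_right_injective _ c.ne_zero h1
      ext i j
      simpa using congrFun (congrFun h3 (e i)) (e j)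
  refine ⟨fun g d hg => ⟨_, (hstd g d).1 hg, hdet g⟩, fun T d hT => ?_⟩
  obtain ⟨g, rfl⟩ : ∃ g, h * PSLAut.glReindex e g * h⁻¹ = T :=
    ⟨(PSLAut.glReindex e).symm (h⁻¹ * T * h), by rw [MulEquiv.apply_symm_apply]; group⟩
  exact ⟨g, (hstd g d).2 hT, (hdet g).symm⟩

theorem det_simil_J {m : ℕ} (g : GL (Fin m ⊕ Fin m) F₀) (d : F₀ˣ)
    (hg : formOp g (Matrix.J (Fin m) F₀) = (d : F₀) • Matrix.J (Fin m) F₀) :
    GeneralLinearGroup.det g = d ^ m := by
  have h1 : g * PSLAut.sympScale m d⁻¹ ∈ PSLAut.matIso (Matrix.J (Fin m) F₀) := by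
    rw [PSLAut.mem_matIso, formOp_mul, hg, formOp_smul, PSLAut.formOp_sympScale, smul_smul, ← Units.val_mul,
      mul_inv_cancel, Units.val_one, one_smul]
  have h2 : GeneralLinearGroup.det (g * PSLAut.sympScale m d⁻¹) = 1 := by
    ext
    exact SymplecticGroup.det_eq_one ((PSLAut.formOp_J_iff _).mp h1)
  rwa [map_mul, PSLAut.det_sympScale, inv_pow, mul_inv_eq_one] at h2

theorem exists_iso_det_neg_one (h2 : (2 : F₀) ≠ 0) (hn : 1 ≤ n) {M : GL (Fin n) F₀}
    (hM : (M : Matrix (Fin n) (Fin n) F₀)ᵀ = (M : Matrix (Fin n) (Fin n) F₀)) :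
    ∃ g : GL (Fin n) F₀, formOp g (M : Matrix (Fin n) (Fin n) F₀) = M.1 ∧
      GeneralLinearGroup.det g = -1 := by
  classical
  obtain ⟨α, hα⟩ := FiniteField.exists_nonsquare (F := F₀) (fun h => h2 (by
    have := ringChar.Nat.cast_ringChar (R := F₀); rw [h] at this; simpa using this))
  let i₀ : Fin n := ⟨0, hn⟩
  obtain ⟨h, δ, -, hh⟩ := PSLAut.exists_formOp_diag h2 α hα hM (GeneralLinearGroup.det_ne_zero M) i₀
  let D : GL (Fin n) F₀ := GeneralLinearGroup.mkOfDetNeZero
    (Matrix.diagonal fun i => if i = i₀ then (-1 : F₀) else 1) (by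
      rw [det_diagonal, Finset.prod_ite_eq' Finset.univ i₀]; simp)
  refine ⟨h * D * h⁻¹, ?_, ?_⟩
  · rw [formOp_mul, formOp_mul, hh]
    have hD : formOp D (Matrix.diagonal fun i => if i = i₀ then δ else 1)
        = Matrix.diagonal fun i => if i = i₀ then δ else 1 := by
      show (Matrix.diagonal _)ᵀ * Matrix.diagonal _ * Matrix.diagonal _ = _
      rw [diagonal_transpose, diagonal_mul_diagonal, diagonal_mul_diagonal]
      congr 1
      ext i
      split_ifs <;> ring
    rw [hD, ← hh, ← formOp_mul, mul_inv_cancel, PSLAut.formOp_one]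
  · rw [map_mul, map_mul, map_inv, mul_comm, inv_mul_cancel_left]
    ext
    show (Matrix.diagonal _).det = _
    rw [det_diagonal, Finset.prod_ite_eq' Finset.univ i₀]; simp

variable {F : Type*} [Field F] [Fintype F] {q : ℕ}

local notation "AutT" => (MulAut (Cfsg.PSU n F q))

variable (hF : Fintype.card F = q ^ 2) {ι : F₀ →+* F} (hι : ∀ x : F, x ^ q = x ↔ ∃ y, ι y = x)
include hF hι

theorem pow_card_one (ν : Fˣ) : (ν ^ (q - 1)) ^ (q + 1) = 1 := by
  have h : ν ^ Nat.card Fˣ = 1 := pow_card_eq_one'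
  rw [Nat.card_units, Nat.card_eq_fintype_card, hF] at h
  rwa [← pow_mul, show (q - 1) * (q + 1) = q ^ 2 - 1 by
    rw [Nat.sub_mul, one_mul, mul_add, mul_one, sq]; omega]

/-- `ν ↦ ν^{q-1}` onto the units of norm one. -/
noncomputable def toNormOne : Fˣ →* ↥(normOne F q) :=
  (powMonoidHom (q - 1) : Fˣ →* Fˣ).codRestrict _ fun ν => pow_card_one hF hι ν

theorem one_le_q : 1 ≤ q := Nat.pos_of_ne_zero fun h => by
  subst h
  exact absurd hF Fintype.card_ne_zero

theorem toNormOne_surjective : Function.Surjective (toNormOne hF hι) := by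
  rintro ⟨x, hx⟩
  have hr : (powMonoidHom (q - 1) : Fˣ →* Fˣ).range = normOne F q := by
    refine Subgroup.eq_of_le_of_card_ge (fun y ⟨ν, hν⟩ => hν ▸ pow_card_one hF hι ν) ?_
    rw [IsCyclic.card_powMonoidHom_range, PSUField.natCard_normOne_units hF, Nat.card_units,
      Nat.card_eq_fintype_card, hF]
    have hq := one_le_q hF hι
    have hq2 : q ≠ 1 := fun h => by
      subst h
      have := Fintype.one_lt_card (α := F)
      omega
    rw [show q ^ 2 - 1 = (q - 1) * (q + 1) by rw [Nat.sub_mul, one_mul, mul_add, mul_one, sq]; omega,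
      Nat.gcd_eq_right (dvd_mul_right _ _), Nat.mul_div_cancel_left _ (by omega)]
  obtain ⟨ν, hν⟩ := hr.ge hx
  exact ⟨ν, Subtype.ext hν⟩

/-- The determinant condition, in units. -/
theorem centDet_pow {x : ↥(normOne F q)} {T : GL (Fin n) F₀} {c : F₀ˣ} {ν : Fˣ}
    (hν : (ν : F) * (ν : F) ^ q = ι c) (hx : ((x : Fˣ) : F) * (ν : F) ^ n = ι (T : Matrix (Fin n) (Fin n) F₀).det)
    {m : ℕ} (hnm : n = 2 * m) (s : F₀ˣ)
    (hT : GeneralLinearGroup.det T = c ^ m * s) :
    (x : Fˣ) = (ν ^ (q - 1)) ^ m * Units.map ι.toMonoidHom s := by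
  refine mul_right_cancel (b := ν ^ n) (Units.ext ?_)
  have h1 := congrArg (fun u : F₀ˣ => ι (u : F₀)) hT
  simp only [GeneralLinearGroup.val_det_apply, Units.val_mul, Units.val_pow_eq_pow_val, map_mul, map_pow] at h1
  simp only [Units.val_mul, Units.val_pow_eq_pow_val, Units.coe_map]
  rw [hx, h1, ← hν, hnm, mul_right_comm, ← pow_mul _ (q - 1), ← pow_add, ← pow_succ' , ← pow_mul]
  congr 1
  congr 1
  have := one_le_q hF hι
  rw [← add_mul]
  congr 1
  omega

theorem centDet_of {x : ↥(normOne F q)} {T : GL (Fin n) F₀} {c : F₀ˣ} {ν : Fˣ}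
    (hν : (ν : F) * (ν : F) ^ q = ι c) {m : ℕ} (hnm : n = 2 * m) (s : F₀ˣ)
    (hT : GeneralLinearGroup.det T = c ^ m * s)
    (hx : (x : Fˣ) = (ν ^ (q - 1)) ^ m * Units.map ι.toMonoidHom s) :
    ((x : Fˣ) : F) * (ν : F) ^ n = ι (T : Matrix (Fin n) (Fin n) F₀).det := by
  have h1 := congrArg (fun u : F₀ˣ => ι (u : F₀)) hT
  simp only [GeneralLinearGroup.val_det_apply, Units.val_mul, Units.val_pow_eq_pow_val, map_mul, map_pow] at h1
  rw [hx, h1, ← hν]
  simp only [Units.val_mul, Units.val_pow_eq_pow_val, Units.coe_map]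
  rw [hnm, mul_right_comm, ← pow_mul _ (q - 1), ← pow_add, ← pow_succ', ← pow_mul]
  congr 1
  congr 1
  have := one_le_q hF hι
  rw [← add_mul]
  congr 1
  omega

theorem exists_c (ν : Fˣ) : ∃ c : F₀ˣ, (ν : F) * (ν : F) ^ q = ι c := by
  obtain ⟨y, hy⟩ := (hι ((ν : F) * (ν : F) ^ q)).1 (by
    rw [mul_pow, Forms.pow_q_pow_q hF, mul_comm])
  refine ⟨Units.mk0 y fun h => ?_, hy.symm⟩
  rw [h, map_zero] at hy
  exact mul_ne_zero ν.ne_zero (pow_ne_zero _ ν.ne_zero) hy.symm

theorem index_pow_normOne (a : ℕ) :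
    (powMonoidHom a : ↥(normOne F q) →* _).range.index = Nat.gcd a (q + 1) := by
  rw [IsCyclic.index_powMonoidHom_range, PSUField.natCard_normOne_units hF, Nat.gcd_comm]

theorem range_pow_le {a b : ℕ} (h : a ∣ b) :
    (powMonoidHom b : ↥(normOne F q) →* _).range ≤ (powMonoidHom a : ↥(normOne F q) →* _).range := by
  obtain ⟨k, rfl⟩ := h
  rintro _ ⟨x, rfl⟩
  exact ⟨x ^ k, by rw [powMonoidHom_apply, powMonoidHom_apply, ← pow_mul, mul_comm]⟩

/-- Symplectic type. -/
theorem split_symp (hn : 3 ≤ n) {γ : AutT} {A : GL (Fin n) F₀} (hγ : Rep hF ι γ A) {m : ℕ} (hnm : n = 2 * m)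
    (hA : PSLAut.Matches A (Matrix.J (Fin m) F₀)) :
    Cfsg.splitClassCount (Cfsg.inndiagPSU n F q) (Cfsg.Inn (Cfsg.PSU n F q)) γ = Nat.gcd m (q + 1) := by
  rw [splitClassCount_eq hF hι hn hγ (powMonoidHom m : ↥(normOne F q) →* _).range, sup_eq_right.2
    (range_pow_le hF hι ⟨2, by omega⟩), index_pow_normOne hF hι]
  · rintro x ⟨T, c, ν, hT, hν, hx⟩
    obtain ⟨g, hg, hdet⟩ := (simil_of_matches hA).2 T c hT
    refine Subgroup.mem_sup_right ⟨toNormOne hF hι ν, Subtype.ext ?_⟩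
    rw [centDet_pow hF hι hν hx hnm 1 (by rw [← hdet, det_simil_J g c hg, mul_one]), map_one, mul_one]
    rfl
  · rintro _ ⟨y, rfl⟩
    obtain ⟨ν, rfl⟩ := toNormOne_surjective hF hι y
    obtain ⟨c, hc⟩ := exists_c hF hι ν
    obtain ⟨T, hT, hdet⟩ := (simil_of_matches hA).1 _ c (PSLAut.formOp_sympScale m c)
    refine ⟨T, c, ν, hT, hc, centDet_of hF hι hc hnm 1 (by rw [hdet, PSLAut.det_sympScale, mul_one]) ?_⟩
    rw [map_one, mul_one]
    rfl

/-- Orthogonal type in even dimension. -/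
theorem split_orth (hn : 3 ≤ n) {γ : AutT} {A : GL (Fin n) F₀} (hγ : Rep hF ι γ A) {m : ℕ} (hnm : n = 2 * m)
    (h2 : (2 : F₀) ≠ 0) (hodd : Odd q)
    (hA : (A : Matrix (Fin n) (Fin n) F₀)ᵀ = (A : Matrix (Fin n) (Fin n) F₀)) :
    Cfsg.splitClassCount (Cfsg.inndiagPSU n F q) (Cfsg.Inn (Cfsg.PSU n F q)) γ = Nat.gcd n (q + 1) / 2 := by
  classical
  have hneg : ((-1 : Fˣ)) ∈ normOne F q := by
    rw [mem_normOne]
    exact (hodd.add_one).neg_one_pow
  set e : ↥(normOne F q) := ⟨-1, hneg⟩ with he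
  have he2 : orderOf e = 2 := by
    refine orderOf_eq_prime (Subtype.ext ?_) fun h => h2 (ι.injective ?_)
    · rw [SubmonoidClass.coe_pow, OneMemClass.coe_one]; exact neg_one_sq
    · have h3 := congrArg (fun u : ↥(normOne F q) => ((u : Fˣ) : F)) h
      simp [he] at h3
      rw [map_ofNat, map_zero]
      linear_combination -h3
  set D := (powMonoidHom m : ↥(normOne F q) →* _).range ⊔ Subgroup.zpowers e with hD
  rw [splitClassCount_eq hF hι hn hγ D, sup_eq_right.2 ((range_pow_le hF hι ⟨2, by omega⟩).trans le_sup_left),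
    SplitClass.index_powRange_sup]
  · have h := (Subgroup.zpowers e).card_mul_index
    rw [Nat.card_zpowers, he2, PSUField.natCard_normOne_units hF] at h
    rw [← h, hnm, Nat.gcd_mul_left, Nat.mul_div_cancel_left _ two_pos]
  · rintro x ⟨T, c, ν, hT, hν, hx⟩
    refine Subgroup.mem_sup_right ?_
    have hd := PSLAut.det_sq_of_simil (GeneralLinearGroup.det_ne_zero A) hT
    rw [Fintype.card_fin, show c ^ n = (c ^ m) ^ 2 by rw [← pow_mul, hnm, mul_comm]] at hd
    have h' := congrArg Units.val hd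
    simp only [Units.val_pow_eq_pow_val] at h'
    rcases sq_eq_sq_iff_eq_or_eq_neg.mp h' with hs | hs
    · refine Subgroup.mem_sup_left ⟨toNormOne hF hι ν, Subtype.ext ?_⟩
      rw [centDet_pow hF hι hν hx hnm 1 (Units.ext (by simpa using hs)), map_one, mul_one]
      rfl
    · have hxe : x = (toNormOne hF hι ν) ^ m * e := Subtype.ext (by
        rw [centDet_pow hF hι hν hx hnm (-1) (Units.ext (by simpa using hs))]
        exact Units.ext (by simp [he, toNormOne]; rfl))
      rw [hxe]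
      exact mul_mem (Subgroup.mem_sup_left ⟨_, rfl⟩) (Subgroup.mem_sup_right (Subgroup.mem_zpowers e))
  · intro x hx
    obtain ⟨_, ⟨y, rfl⟩, z, hz, rfl⟩ := Subgroup.mem_sup.1 hx
    obtain ⟨ν, rfl⟩ := toNormOne_surjective hF hι y
    obtain ⟨c, hc⟩ := exists_c hF hι ν
    obtain ⟨s, hs⟩ : ∃ s : F₀ˣ, (s = 1 ∨ s = -1) ∧ (z : Fˣ) = Units.map ι.toMonoidHom s := by
      obtain ⟨k, rfl⟩ := Subgroup.mem_zpowers_iff.1 hz
      rcases Int.even_or_odd k with hk | hk
      · refine ⟨1, Or.inl rfl, ?_⟩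
        obtain ⟨j, rfl⟩ := hk
        rw [SubgroupClass.coe_zpow, map_one, ← two_mul, _root_.zpow_mul]
        show ((-1 : Fˣ) ^ (2 : ℤ)) ^ j = 1
        norm_num
      · refine ⟨-1, Or.inr rfl, ?_⟩
        rw [SubgroupClass.coe_zpow]
        show (-1 : Fˣ) ^ k = _
        rw [hk.neg_one_zpow]
        exact Units.ext (by simp)
    obtain ⟨T, hT⟩ : ∃ T : GL (Fin n) F₀, formOp T (A : Matrix (Fin n) (Fin n) F₀) = (c : F₀) • A.1 := by
      refine PSLAut.exists_formOp_eq_of_det h2 hA (by rw [transpose_smul, hA])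
        (GeneralLinearGroup.det_ne_zero A) ?_ ?_
      · rw [det_smul]; exact mul_ne_zero (pow_ne_zero _ c.ne_zero) (GeneralLinearGroup.det_ne_zero A)
      · rw [det_smul, Fintype.card_fin,
          show (c : F₀) ^ n = (c : F₀) ^ m * (c : F₀) ^ m by rw [← pow_add, hnm, two_mul]]
        refine ⟨((c : F₀) ^ m)⁻¹, ?_⟩
        have := GeneralLinearGroup.det_ne_zero A
        field_simp
    obtain ⟨g₁, hg₁, hd₁⟩ := exists_iso_det_neg_one h2 (by omega) hA
    have hall : ∀ t : F₀ˣ, t = 1 ∨ t = -1 → ∃ T : GL (Fin n) F₀,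
        formOp T (A : Matrix (Fin n) (Fin n) F₀) = (c : F₀) • A.1 ∧ GeneralLinearGroup.det T = c ^ m * t := by
      have hd := PSLAut.det_sq_of_simil (GeneralLinearGroup.det_ne_zero A) hT
      rw [Fintype.card_fin, show c ^ n = (c ^ m) ^ 2 by rw [← pow_mul, hnm, mul_comm]] at hd
      have h' := congrArg Units.val hd
      simp only [Units.val_pow_eq_pow_val] at h'
      have hT' : formOp (T * g₁) (A : Matrix (Fin n) (Fin n) F₀) = (c : F₀) • A.1 := by
        rw [formOp_mul, hT, formOp_smul, hg₁]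
      rcases sq_eq_sq_iff_eq_or_eq_neg.mp h' with hs | hs <;> rintro t (rfl | rfl)
      · exact ⟨T, hT, Units.ext (by simpa using hs)⟩
      · exact ⟨_, hT', Units.ext (by simp [hd₁]; simpa using hs)⟩
      · exact ⟨_, hT', Units.ext (by simp [hd₁]; simpa [neg_eq_iff_eq_neg] using hs)⟩
      · exact ⟨T, hT, Units.ext (by simpa using hs)⟩
    obtain ⟨T', hT', hdet⟩ := hall s hs.1
    refine ⟨T', c, ν, hT', hc, centDet_of hF hι hc hnm s hdet ?_⟩
    rw [Subgroup.coe_mul, hs.2]
    rfl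

/-- Odd dimension or even `q`. -/
theorem split_rest (hn : 3 ≤ n) {γ : AutT} {A : GL (Fin n) F₀} (hγ : Rep hF ι γ A)
    (hne : ¬ (Even n ∧ (2 : F₀) ≠ 0)) :
    Cfsg.splitClassCount (Cfsg.inndiagPSU n F q) (Cfsg.Inn (Cfsg.PSU n F q)) γ = Nat.gcd n (q + 1) := by
  classical
  rw [splitClassCount_eq hF hι hn hγ ⊥, sup_bot_eq, index_pow_normOne hF hι]
  · rintro x ⟨T, c, ν, hT, hν, hx⟩
    refine Subgroup.mem_sup_left ?_
    have hd := PSLAut.det_sq_of_simil (GeneralLinearGroup.det_ne_zero A) hT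
    rw [Fintype.card_fin] at hd
    rcases Nat.even_or_odd n with hev | ⟨k, hk⟩
    · have h2 : (2 : F₀) = 0 := by by_contra h; exact hne ⟨hev, h⟩
      obtain ⟨m, hm⟩ := hev
      have hdet : GeneralLinearGroup.det T = c ^ m * 1 := by
        rw [mul_one]
        refine Units.ext (PSLAut.sq_inj_of_two h2 ?_)
        rw [← sq, ← sq, ← Units.val_pow_eq_pow_val, ← Units.val_pow_eq_pow_val, hd, ← pow_mul]
        congr 1
        congr 1
        omega
      have hxm : x = (toNormOne hF hι ν) ^ m := Subtype.ext (by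
        rw [centDet_pow hF hι hν hx (by omega : n = 2 * m) 1 hdet, map_one, mul_one]; rfl)
      have hodd : ¬ 2 ∣ q + 1 := by
        haveI : CharP F₀ 2 := CharTwo.of_one_ne_zero_of_two_eq_zero one_ne_zero h2
        obtain ⟨f, hr, hf⟩ := FiniteField.card F₀ 2
        haveI : CharP F 2 := charP_of_injective_ringHom ι.injective 2
        obtain ⟨f', -, hf'⟩ := FiniteField.card F 2
        rw [hF] at hf'
        have : 2 ∣ q := Nat.prime_two.dvd_of_dvd_pow (n := 2) (by rw [hf']; exact dvd_pow_self 2 f'.pos.ne')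
        omega
      obtain ⟨j, hj⟩ := Nat.odd_iff.2 (Nat.two_dvd_ne_zero.1 hodd)
      set z := toNormOne hF hι ν
      have hz : z ^ (2 * j + 1) = 1 := by
        rw [← hj, ← PSUField.natCard_normOne_units hF]; exact pow_card_eq_one'
      refine ⟨z ^ (j + 1), ?_⟩
      rw [hxm, powMonoidHom_apply, ← pow_mul, show (j + 1) * n = (2 * j + 1) * m + m by rw [hm]; ring,
        pow_add, pow_mul, hz, one_pow, one_mul]
    · set a := c ^ (k + 1) / GeneralLinearGroup.det T with ha
      have han : a ^ n = GeneralLinearGroup.det T := by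
        rw [ha, div_pow, ← pow_mul, mul_comm (k + 1) n, pow_mul, ← hd, ← pow_mul, div_eq_iff_eq_mul,
          ← pow_succ']
        congr 1
        omega
      have ha2 : a ^ 2 = c := by
        rw [ha, div_pow, hd, ← pow_mul, div_eq_iff_eq_mul, ← pow_succ']
        congr 1
        omega
      set y : Fˣ := Units.map ι.toMonoidHom a / ν with hy
      have hy1 : y ^ (q + 1) = 1 := by
        rw [hy, div_pow, div_eq_one]
        refine Units.ext ?_
        rw [Units.val_pow_eq_pow_val, Units.val_pow_eq_pow_val, pow_succ', pow_succ', hν]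
        show ι (a : F₀) * ι (a : F₀) ^ q = ι (c : F₀)
        rw [(hι (ι (a : F₀))).2 ⟨_, rfl⟩, ← map_mul, ← Units.val_mul, ← sq, ha2]
      refine ⟨⟨y, hy1⟩, Subtype.ext (mul_right_cancel (b := ν ^ n) (Units.ext ?_))⟩
      show ((y ^ n * ν ^ n : Fˣ) : F) = ((x : Fˣ) : F) * ((ν ^ n : Fˣ) : F)
      rw [hy, div_pow, div_mul_cancel, Units.val_pow_eq_pow_val, Units.val_pow_eq_pow_val, hx,
        ← GeneralLinearGroup.val_det_apply, ← han, Units.val_pow_eq_pow_val, map_pow]
      rfl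
  · intro x hx
    obtain rfl := Subgroup.mem_bot.1 hx
    refine ⟨1, 1, 1, by rw [PSLAut.formOp_one, Units.val_one, one_smul], by simp, by simp⟩

end Cfsg.Agent.Lib.PSUGraph
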